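import Mathlib

set_option autoImplicit false
set_option backward.isDefEq.respectTransparency false
universe u
open TensorProduct

namespace Groth.Agent.H53.ValSep

/-- Over a valuation ring, an algebra that embeds into an algebra over the fraction field is
flat. -/
theorem flat_of_injective_of_fractionField {A K B C : Type u} [CommRing A] [IsDomain A]
    [ValuationRing A] [Field K] [Algebra A K] [IsFractionRing A K] [CommRing B] [Algebra A B]
    [CommRing C] [Algebra A C] (ω : B →ₐ[A] C) (hω : Function.Injective ω) (κ : K →ₐ[A] C) :
    Module.Flat A B := by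
  rw [Module.Flat.flat_iff_torsion_eq_bot_of_isBezout, Submodule.eq_bot_iff]
  intro b hb
  rw [Submodule.mem_torsion_iff] at hb
  obtain ⟨⟨a, ha⟩, hab⟩ := hb
  apply hω
  rw [map_zero]
  have h1 : algebraMap A C a * ω b = 0 := by
    rw [← Algebra.smul_def, ← map_smul]
    change ω (a • b) = 0
    have : a • b = 0 := hab
    rw [this, map_zero]
  have h2 : algebraMap A C a = κ (algebraMap A K a) := (κ.commutes a).symm
  have h3 : IsUnit (algebraMap A K a) :=
    IsLocalization.map_units K (⟨a, ha⟩ : nonZeroDivisors A)
  have h4 : IsUnit (algebraMap A C a) := by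
    rw [h2]
    exact h3.map κ
  exact (h4.mul_right_eq_zero).1 h1

/-- A flat algebra over a local ring whose spectrum hits the closed point is faithfully flat. -/
theorem faithfullyFlat_of_flat_of_mem_range {A B : Type u} [CommRing A] [IsLocalRing A]
    [CommRing B] [Algebra A B] [Module.Flat A B] (u : PrimeSpectrum B)
    (hu : PrimeSpectrum.comap (algebraMap A B) u = IsLocalRing.closedPoint A) :
    Module.FaithfullyFlat A B := by
  apply Module.FaithfullyFlat.of_comap_surjective
  intro x
  have hspec : x ⤳ PrimeSpectrum.comap (algebraMap A B) u := by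
    rw [hu]
    exact IsLocalRing.specializes_closedPoint x
  have hgen : GeneralizingMap (PrimeSpectrum.comap (algebraMap A B)) :=
    RingHom.Flat.generalizingMap_comap (f := algebraMap A B)
      (RingHom.flat_algebraMap_iff.2 inferInstance)
  obtain ⟨u', -, hu'⟩ := hgen hspec
  exact ⟨u', hu'⟩

/-- Descent of étaleness along the faithfully flat map itself. -/
theorem etale_of_etale_includeLeft {A B : Type u} [CommRing A] [CommRing B] [Algebra A B]
    [Module.FaithfullyFlat A B]
    (h : (Algebra.TensorProduct.includeLeft : B →ₐ[A] B ⊗[A] B).toRingHom.Etale) :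
    (algebraMap A B).Etale := by
  have h1 : Algebra.Etale B (B ⊗[A] B) := by
    rw [← RingHom.etale_algebraMap]
    convert h using 1
    ext b
    simp
  have := Algebra.Etale.of_etale_tensorProduct_of_faithfullyFlat (R := A) (S := B) B
  rw [RingHom.etale_algebraMap]
  exact this

end Groth.Agent.H53.ValSep
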