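import Groth.Agent.H52.UCAssembly
import Groth.Agent.H52.DVRDescent
import Groth.Agent.H53.ValSep.Alg

set_option autoImplicit false
set_option backward.isDefEq.respectTransparency false
universe u
open CategoryTheory CategoryTheory.Limits AlgebraicGeometry TensorProduct Opposite IsLocalRing
open AlgSp

namespace Groth.Agent.H53.ValSep

open Groth.Agent.H52.UC

variable {S : Scheme.{u}}

/-- Morphisms between the affine normal forms over the base ring are induced by algebra maps. -/
theorem exists_zMap_eq {R : Type u} [CommRing R] (sR : Spec (CommRingCat.of R) ⟶ S)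
    {B C : Type u} [CommRing B] [Algebra R B] [CommRing C] [Algebra R C]
    (m : ZA sR C ⟶ ZA sR B) (hm : m ≫ gA sR B = gA sR C) :
    ∃ ω : B →ₐ[R] C, m = zMap sR ω := by
  let ω₀ : CommRingCat.of B ⟶ CommRingCat.of C := Spec.preimage m.left
  have hω₀ : Spec.map ω₀ = m.left := Spec.map_preimage m.left
  have hcomm : ω₀.hom.comp (algebraMap R B) = algebraMap R C := by
    have h1 : Spec.map (CommRingCat.ofHom (algebraMap R B) ≫ ω₀) =
        Spec.map (CommRingCat.ofHom (algebraMap R C)) := by
      rw [Spec.map_comp, hω₀]
      exact congrArg (fun k => k.left) hm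
    exact congrArg CommRingCat.Hom.hom (Spec.map_injective h1)
  refine ⟨{ ω₀.hom with commutes' := fun r => congrArg (fun g => g r) hcomm }, ?_⟩
  apply Over.OverMorphism.ext
  exact hω₀.symm

/-- Ring maps inducing injections on global sections of spectra are injective. -/
theorem injective_of_injective_appTop_SpecMap {A B : Type u} [CommRing A] [CommRing B]
    (θ : A →+* B) (h : Function.Injective (Spec.map (CommRingCat.ofHom θ)).appTop) :
    Function.Injective θ := by
  have hn := Scheme.ΓSpecIso_inv_naturality (CommRingCat.ofHom θ)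
  intro x y hxy
  have e1 : Function.Injective (Scheme.ΓSpecIso (CommRingCat.of A)).inv :=
    (ConcreteCategory.bijective_of_isIso _).1
  apply e1
  apply h
  have h1 := congrArg (fun k => k.hom x) hn
  have h2 := congrArg (fun k => k.hom y) hn
  change (Scheme.ΓSpecIso (CommRingCat.of B)).inv (θ x) = _ at h1
  change (Scheme.ΓSpecIso (CommRingCat.of B)).inv (θ y) = _ at h2
  exact h1.symm.trans ((congrArg _ hxy).trans h2)

/-- A pullback square over a composite whose legs agree already over the middle object is a
pullback square over the middle object. -/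
theorem isPullback_of_comp {C : Type*} [Category C] {P U Z T : C} {p1 p2 : P ⟶ U} {c : U ⟶ Z}
    {π : Z ⟶ T} (big : IsPullback p1 p2 (c ≫ π) (c ≫ π)) (h : p1 ≫ c = p2 ≫ c) :
    IsPullback p1 p2 c c := by
  refine ⟨⟨h⟩, ⟨PullbackCone.IsLimit.mk _
    (fun s => big.lift s.fst s.snd (by rw [← Category.assoc, s.condition, Category.assoc]))
    (fun s => big.lift_fst _ _ _) (fun s => big.lift_snd _ _ _) ?_⟩⟩
  intro s m h1 h2
  apply big.hom_ext
  · rw [big.lift_fst]; exact h1
  · rw [big.lift_snd]; exact h2

end Groth.Agent.H53.ValSep
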