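import Groth.Agent.H53.ValSep.GeomA
import Groth.Agent.H53.RelNorm.Codim0
import Groth.Agent.H53.ZarGlueAff
import Groth.Agent.H52.Epi
import Groth.Agent.H52.QC
import Groth.Agent.H52.QC5
import Groth.Agent.H52.Points

set_option autoImplicit false
set_option backward.isDefEq.respectTransparency false
universe u
open CategoryTheory CategoryTheory.Limits AlgebraicGeometry TensorProduct Opposite IsLocalRing
open AlgSp

namespace Groth.Agent.H53.ValSep

open Groth.Agent.H52.UC Groth.Agent.Lib.Helper54 Groth.Agent.H53.LocPrinc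

variable {S : Scheme.{u}} {A : Type u} [CommRing A] [IsDomain A] [ValuationRing A]
  {K : Type u} [Field K] [Algebra A K] [IsFractionRing A K]
  (sA : Spec (CommRingCat.of A) ⟶ S)

/-- An affine étale chart in normal form through a point of `Z` over the closed point. -/
theorem exists_chart {Z : Sp S} (hZ : IsAlgSpace Z) (π : Z ⟶ (yon S).obj (Over.mk sA))
    (z : Points Z)
    (hz : Points.map π z = Points.ofScheme (Over.mk sA) (closedPoint A)) :
    ∃ (B : Type u) (_ : CommRing B) (_ : Algebra A B) (c : (yon S).obj (ZA sA B) ⟶ Z)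
      (u : PrimeSpectrum B), RepWith @Etale c ∧ c ≫ π = (yon S).map (gA sA B) ∧
      PrimeSpectrum.comap (algebraMap A B) u = closedPoint A := by
  have hE : (RepWith (S := S) @Etale).IsMultiplicative := repWith_isMultiplicative _
  obtain ⟨U, p, hpe, hps⟩ := hZ.atlas
  obtain ⟨u₀, hu₀⟩ := Groth.Agent.H53.surjective_ofPt_of_surjective p hps z
  obtain ⟨U₀, hU₀, huU₀⟩ := GenFin.exists_affineOpen_mem U.left u₀
  have hVaff : IsAffine (ZarGlue.ov U U₀).left := hU₀
  have hc₀e : RepWith @Etale ((yon S).map (ZarGlue.ovι U U₀) ≫ p) := by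
    refine hE.comp_mem _ _ ((repWith_yon_map_iff _ _).2 ?_) hpe
    exact inferInstanceAs (Etale U₀.ι)
  have hc₀z : Points.ofPt ((yon S).map (ZarGlue.ovι U U₀) ≫ p)
      (show ↥(ZarGlue.ov U U₀).left from ⟨u₀, huU₀⟩) = z := by
    rw [H53.ofPt_yon_map_comp]
    exact hu₀
  obtain ⟨B, _, _, eU, heU⟩ := exists_ZA_iso sA (ZarGlue.ov U U₀)
    ((yon S).preimage (((yon S).map (ZarGlue.ovι U U₀) ≫ p) ≫ π))
  have hiso : Etale eU.hom.left := inferInstance
  refine ⟨B, inferInstance, inferInstance,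
    (yon S).map eU.hom ≫ (yon S).map (ZarGlue.ovι U U₀) ≫ p,
    eU.inv.left (show ↥(ZarGlue.ov U U₀).left from ⟨u₀, huU₀⟩),
    hE.comp_mem _ _ ((repWith_yon_map_iff _ _).2 hiso) hc₀e, ?_, ?_⟩
  · rw [← heU, Functor.map_comp, Functor.map_preimage, Category.assoc]
  · have hcπ : ((yon S).map eU.hom ≫ (yon S).map (ZarGlue.ovι U U₀) ≫ p) ≫ π =
        (yon S).map (gA sA B) := by
      rw [← heU, Functor.map_comp, Functor.map_preimage, Category.assoc]
    have h1 : Points.ofPt ((yon S).map eU.hom ≫ (yon S).map (ZarGlue.ovι U U₀) ≫ p)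
        (eU.inv.left (show ↥(ZarGlue.ov U U₀).left from ⟨u₀, huU₀⟩)) = z := by
      rw [H53.ofPt_yon_map_comp, ← hc₀z]
      congr 1
      change (eU.inv.left ≫ eU.hom.left) _ = _
      rw [← Over.comp_left, Iso.inv_hom_id]
      rfl
    have h2 : Points.map π z = Points.ofScheme (Over.mk sA) ((gA sA B).left
        (eU.inv.left (show ↥(ZarGlue.ov U U₀).left from ⟨u₀, huU₀⟩))) := by
      rw [← h1, Points.map_ofPt, hcπ]
      exact Groth.Agent.H53.FibrePts.ofPt_yon_map _ _
    rw [hz] at h2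
    exact ((Points.schemeEquiv (Over.mk sA)).injective h2).symm

/-- A schematically dominant affine test scheme over the generic point for an étale chart. -/
theorem exists_generic_chart {Z : Sp S} (hZ : IsAlgSpace Z) (π : Z ⟶ (yon S).obj (Over.mk sA))
    (hπ : IsSeparatedMor π) (t₀ : (yon S).obj (ZA sA K) ⟶ Z)
    (ht₀ : t₀ ≫ π = (yon S).map (gA sA K)) (hdense : IsSchImage t₀ (𝟙 Z))
    {B : Type u} [CommRing B] [Algebra A B] (c : (yon S).obj (ZA sA B) ⟶ Z)
    (hce : RepWith @Etale c) (hc : c ≫ π = (yon S).map (gA sA B)) :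
    ∃ (C : Type u) (_ : CommRing C) (_ : Algebra A C) (ω : B →ₐ[A] C) (κ : K →ₐ[A] C),
      Function.Injective ω ∧
      (yon S).map (zMap sA ω) ≫ c = (yon S).map (zMap sA κ) ≫ t₀ := by
  -- `t₀` is quasi-compact
  have hqs : IsQuasiSeparatedMor π :=
    Groth.Agent.H53.repWith_of_le (P := @IsClosedImmersion) (Q := @QuasiCompact)
      (fun _ _ φ hφ => by have := hφ; infer_instance) hπ
  have hqc : IsQuasiCompactMor t₀ := by
    refine H52.isQuasiCompactMor_of_comp (IsAlgSpace.yon_obj _) hZ (IsAlgSpace.yon_obj _) t₀ π ?_ hqs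
    rw [ht₀]
    exact H52.isQuasiCompactMor_of_repWith_quasiCompact _
      ((repWith_yon_map_iff _ _).2 (inferInstanceAs (QuasiCompact (Spec.map _))))
  -- the generic fibre of the chart
  let UK : Over S := hce.rep.pullback t₀
  let fstK : (yon S).obj UK ⟶ (yon S).obj (ZA sA B) := hce.rep.fst t₀
  let snd' : UK ⟶ ZA sA K := hce.rep.snd t₀
  have sqK : IsPullback fstK ((yon S).map snd') c t₀ := hce.rep.isPullback t₀
  have _ : CompactSpace ↥(ZA sA B).left := inferInstanceAs (CompactSpace ↥(Spec _))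
  have hUKqc : IsQuasiCompactSp ((yon S).obj UK) :=
    hqc (IsAlgSpace.yon_obj _) (H52.isQuasiCompactSp_yon (ZA sA B)) c _ _ sqK.flip
  have _ : CompactSpace ↥UK.left := H52.compactSpace_of_isQuasiCompactSp_yon UK hUKqc
  obtain ⟨W', πW, hW'aff, hπe, hπs⟩ := Groth.Agent.H53.exists_affine_etale_surjective UK.left
  let W'O : Over S := Over.mk (πW ≫ UK.hom)
  let πO : W'O ⟶ UK := Over.homMk πW rfl
  have _ : IsAffine W'O.left := hW'aff
  obtain ⟨fst', hfst'⟩ := (yon S).map_surjective fstK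
  obtain ⟨C, _, _, eW, heW⟩ := exists_ZA_iso sA W'O (πO ≫ snd' ≫ gA sA K)
  have hmK : (eW.hom ≫ πO ≫ snd') ≫ gA sA K = gA sA C := by
    rw [Category.assoc, Category.assoc]; exact heW
  have hsq' : (yon S).map (eW.hom ≫ πO ≫ fst') ≫ c = (yon S).map (eW.hom ≫ πO ≫ snd') ≫ t₀ := by
    rw [Functor.map_comp, Functor.map_comp, Functor.map_comp, Functor.map_comp, hfst',
      Category.assoc, Category.assoc, Category.assoc, Category.assoc, sqK.w]
  have hmB : (eW.hom ≫ πO ≫ fst') ≫ gA sA B = gA sA C := by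
    apply (yon S).map_injective
    rw [Functor.map_comp, ← hc, ← Category.assoc, hsq', Category.assoc, ht₀, ← Functor.map_comp,
      hmK]
  obtain ⟨ω, hω⟩ := exists_zMap_eq sA _ hmB
  obtain ⟨κ, hκ⟩ := exists_zMap_eq sA _ hmK
  refine ⟨C, inferInstance, inferInstance, ω, κ, ?_, ?_⟩
  · have hE : (RepWith (S := S) @Etale).IsMultiplicative := repWith_isMultiplicative _
    have hSj : (RepWith (S := S) @Surjective).IsMultiplicative := repWith_isMultiplicative _
    have hπOe : Etale πO.left := hπe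
    have hπOs : Surjective πO.left := hπs
    have hee : RepWith @Etale ((yon S).map (eW.hom ≫ πO)) := by
      rw [Functor.map_comp]
      exact hE.comp_mem _ _ ((repWith_yon_map_iff _ _).2 (inferInstanceAs (Etale eW.hom.left)))
        ((repWith_yon_map_iff _ _).2 hπOe)
    have hes : RepWith @Surjective ((yon S).map (eW.hom ≫ πO)) := by
      rw [Functor.map_comp]
      exact hSj.comp_mem _ _
        ((repWith_yon_map_iff _ _).2 (inferInstanceAs (Surjective eW.hom.left)))
        ((repWith_yon_map_iff _ _).2 hπOs)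
    have hEpi : Epi ((yon S).map (eW.hom ≫ πO)) := H52.epi_of_repWith_etale_surjective _ hee hes
    have hd : (yon S).map (eW.hom ≫ πO ≫ fst') = (yon S).map (eW.hom ≫ πO) ≫ fstK := by
      rw [← hfst', ← Functor.map_comp, Category.assoc]
    have hker : QcImage.IsKer fstK (eW.hom ≫ πO ≫ fst').left.ker :=
      QcImage.isKer_of_atlas _ _ _ hd
    have hschim : IsSchImage fstK (𝟙 ((yon S).obj (ZA sA B))) :=
      QcImage.isSchImage_pullback_of_flat (IsAlgSpace.yon_obj _) hZ (IsAlgSpace.yon_obj _) c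
        (QcImage.locP_flat_of_isEtaleMor (H52.isEtaleMor_of_repWith_etale c hce)) t₀ hqc (𝟙 Z)
        hdense ((yon S).map snd') fstK sqK.flip c (𝟙 _) (IsPullback.of_vert_isIso ⟨by simp⟩)
    have hK : (eW.hom ≫ πO ≫ fst').left.ker = ⊥ := by
      obtain ⟨l, hl⟩ := (hker (eW.hom ≫ πO ≫ fst').left.ker).2 le_rfl
      obtain ⟨-, -, hmin⟩ := hschim
      have hci : RepWith @IsClosedImmersion
          ((yon S).map (subOverι (ZA sA B) (eW.hom ≫ πO ≫ fst').left.ker)) :=
        (repWith_yon_map_iff _ _).2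
          (inferInstanceAs (IsClosedImmersion (eW.hom ≫ πO ≫ fst').left.ker.subschemeι))
      obtain ⟨k, hk⟩ := hmin _ (IsAlgSpace.yon_obj _) hci ⟨l, hl⟩
      obtain ⟨k₀, rfl⟩ := (yon S).map_surjective k
      have hk₀ : k₀ ≫ subOverι (ZA sA B) (eW.hom ≫ πO ≫ fst').left.ker = 𝟙 _ :=
        (yon S).map_injective (by rw [Functor.map_comp, hk]; exact ((yon S).map_id _).symm)
      have h1 := QcImage.le_ker_of_lift_subOver (𝟙 (ZA sA B)) _ k₀ hk₀
      have h2 : (𝟙 (ZA sA B) : ZA sA B ⟶ ZA sA B).left.ker = ⊥ :=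
        Scheme.Hom.ker_eq_bot_of_isIso (𝟙 (ZA sA B).left)
      rw [h2] at h1
      exact le_bot_iff.1 h1
    rw [hω] at hK
    have _ : IsSchemeTheoreticallyDominant (zMap sA ω).left :=
      (isSchemeTheoreticallyDominant_iff _).2 hK
    have _ : QuasiCompact (zMap sA ω).left := inferInstanceAs (QuasiCompact (Spec.map _))
    have hinj : Function.Injective (zMap sA ω).left.appTop.hom := (zMap sA ω).left.app_injective ⊤
    exact injective_of_injective_appTop_SpecMap ω.toRingHom hinj
  · rw [← hω, ← hκ]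
    exact hsq'

end Groth.Agent.H53.ValSep
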