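import Groth.Agent.H53.ValSep.GeomB

set_option autoImplicit false
set_option backward.isDefEq.respectTransparency false
universe u
open CategoryTheory CategoryTheory.Limits AlgebraicGeometry TensorProduct Opposite IsLocalRing
open AlgSp

namespace Groth.Agent.H53.ValSep

open Groth.Agent.H52.UC Groth.Agent.H52

variable {S : Scheme.{u}} {A : Type u} [CommRing A] [IsDomain A] [ValuationRing A]
  {K : Type u} [Field K] [Algebra A K] [IsFractionRing A K]
  (sA : Spec (CommRingCat.of A) ⟶ S)

/-- **Theorem G.**  A separated algebraic space over a valuation ring which is the scheme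
theoretic image of a point over the fraction field and which hits the closed point has a section
extending that point. -/
theorem exists_section {Z : Sp S} (hZ : IsAlgSpace Z) (π : Z ⟶ (yon S).obj (Over.mk sA))
    (hπ : IsSeparatedMor π) (t₀ : (yon S).obj (ZA sA K) ⟶ Z)
    (ht₀ : t₀ ≫ π = (yon S).map (gA sA K)) (hdense : IsSchImage t₀ (𝟙 Z))
    (z : Points Z) (hz : Points.map π z = Points.ofScheme (Over.mk sA) (closedPoint A)) :
    ∃ l : (yon S).obj (Over.mk sA) ⟶ Z, l ≫ π = 𝟙 _ ∧ (yon S).map (gA sA K) ≫ l = t₀ := by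
  obtain ⟨B, _, _, c, u, hce, hc, hu⟩ := exists_chart sA hZ π z hz
  obtain ⟨C, _, _, ω, κ, hω, hsq⟩ := exists_generic_chart sA hZ π hπ t₀ ht₀ hdense c hce hc
  have hBflat : Module.Flat A B := flat_of_injective_of_fractionField ω hω κ
  have hCflat : Module.Flat A C :=
    flat_of_injective_of_fractionField (AlgHom.id A C) Function.injective_id κ
  -- the descent condition
  let p1 : ZA sA (B ⊗[A] B) ⟶ ZA sA B :=
    zMap sA (Algebra.TensorProduct.includeLeft : B →ₐ[A] B ⊗[A] B)
  let p2 : ZA sA (B ⊗[A] B) ⟶ ZA sA B :=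
    zMap sA (Algebra.TensorProduct.includeRight : B →ₐ[A] B ⊗[A] B)
  have hpb : IsPullback p1 p2 (gA sA B) (gA sA B) := isPullback_tensor sA B B
  let θ : B ⊗[A] B →ₐ[A] C ⊗[A] C := Algebra.TensorProduct.map ω ω
  have hθ : Function.Injective θ :=
    TensorProduct.map_injective_of_flat_flat ω.toLinearMap ω.toLinearMap hω hω
  let q1 : ZA sA (C ⊗[A] C) ⟶ ZA sA C :=
    zMap sA (Algebra.TensorProduct.includeLeft : C →ₐ[A] C ⊗[A] C)
  let q2 : ZA sA (C ⊗[A] C) ⟶ ZA sA C :=
    zMap sA (Algebra.TensorProduct.includeRight : C →ₐ[A] C ⊗[A] C)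
  have hd1 : zMap sA θ ≫ p1 = q1 ≫ zMap sA ω := by
    rw [← zMap_comp, ← zMap_comp]
    congr 1
    exact Algebra.TensorProduct.map_comp_includeLeft ω ω
  have hd2 : zMap sA θ ≫ p2 = q2 ≫ zMap sA ω := by
    rw [← zMap_comp, ← zMap_comp]
    congr 1
    exact Algebra.TensorProduct.map_comp_includeRight ω ω
  have hq : q1 ≫ zMap sA κ = q2 ≫ zMap sA κ := by
    rw [← zMap_comp, ← zMap_comp]
    congr 1
    apply AlgHom.coe_ringHom_injective
    apply IsLocalization.ringHom_ext (nonZeroDivisors A)
    ext a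
    change (Algebra.TensorProduct.includeLeft : C →ₐ[A] C ⊗[A] C) (κ (algebraMap A K a)) =
      (Algebra.TensorProduct.includeRight : C →ₐ[A] C ⊗[A] C) (κ (algebraMap A K a))
    rw [AlgHom.commutes, AlgHom.commutes, AlgHom.commutes]
  have hmain : (yon S).map p1 ≫ c = (yon S).map p2 ≫ c := by
    have _ : IsAffine (ZA sA (B ⊗[A] B)).left := inferInstanceAs (IsAffine (Spec _))
    refine eq_of_isSeparatedMor_of_appTop_injective π hπ (zMap sA θ)
      (injective_appTop_SpecMap θ.toRingHom hθ) _ _ ?_ ?_
    · rw [Category.assoc, Category.assoc, hc, ← Functor.map_comp, ← Functor.map_comp, hpb.w]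
    · rw [← Category.assoc, ← Category.assoc, ← Functor.map_comp, ← Functor.map_comp, hd1, hd2,
        Functor.map_comp, Functor.map_comp, Category.assoc, Category.assoc, hsq,
        ← Category.assoc, ← Category.assoc, ← Functor.map_comp, ← Functor.map_comp, hq]
  -- the chart is étale over the base
  have hbig : IsPullback ((yon S).map p1) ((yon S).map p2) (c ≫ π) (c ≫ π) := by
    rw [hc]
    exact hpb.map (yon S)
  have hpbc : IsPullback ((yon S).map p1) ((yon S).map p2) c c := isPullback_of_comp hbig hmain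
  have hp1et : Etale p1.left := hce.property c ((yon S).map p2) p1 hpbc.flip
  have hinclet : (Algebra.TensorProduct.includeLeft : B →ₐ[A] B ⊗[A] B).toRingHom.Etale := by
    have h1 : Etale (Spec.map (CommRingCat.ofHom
        (Algebra.TensorProduct.includeLeft : B →ₐ[A] B ⊗[A] B).toRingHom)) := hp1et
    rwa [HasRingHomProperty.Spec_iff (P := @Etale)] at h1
  have hff : Module.FaithfullyFlat A B := faithfullyFlat_of_flat_of_mem_range u hu
  have hAB : (algebraMap A B).Etale := etale_of_etale_includeLeft hinclet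
  have hgAet : Etale (gA sA B).left := by
    change Etale (Spec.map (CommRingCat.ofHom (algebraMap A B)))
    rw [HasRingHomProperty.Spec_iff (P := @Etale)]
    exact hAB
  have hcov : IsFppfFamily (fun _ : Unit => gA sA B) :=
    isFppfFamily_single (gA sA B) inferInstance inferInstance
      (PrimeSpectrum.comap_surjective_of_faithfullyFlat (A := A) (B := B))
  obtain ⟨l, hl⟩ := hcov.exists_glue (X := Z) (fun _ => c) (by
    intro _ _ R r1 r2 hr
    have h1 : hpb.lift r1 r2 hr ≫ p1 = r1 := hpb.lift_fst _ _ _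
    have h2 : hpb.lift r1 r2 hr ≫ p2 = r2 := hpb.lift_snd _ _ _
    generalize hpb.lift r1 r2 hr = v at h1 h2
    rw [← h1, ← h2, Functor.map_comp, Functor.map_comp, Category.assoc, Category.assoc, hmain])
  have hl' : (yon S).map (gA sA B) ≫ l = c := hl ()
  have hlπ : l ≫ π = 𝟙 _ := by
    refine hcov.hom_ext _ _ fun _ => ?_
    rw [← Category.assoc, hl', hc, Category.comp_id]
  refine ⟨l, hlπ, ?_⟩
  -- the restriction to the generic point
  have hBnt : Nontrivial B :=
    nontrivial_of_ne (0 : B) 1 (fun h => u.isPrime.ne_top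
      ((Ideal.eq_top_iff_one _).2 (h ▸ zero_mem _)))
  have hCnt : Nontrivial C := hω.nontrivial
  have hκ : Function.Injective κ.toRingHom := κ.toRingHom.injective
  have _ : IsAffine (ZA sA K).left := inferInstanceAs (IsAffine (Spec _))
  refine eq_of_isSeparatedMor_of_appTop_injective π hπ (zMap sA κ)
    (injective_appTop_SpecMap κ.toRingHom hκ) _ _ ?_ ?_
  · rw [Category.assoc, hlπ, Category.comp_id, ht₀]
  · rw [← Category.assoc, ← Functor.map_comp, zMap_gA, ← zMap_gA sA ω, Functor.map_comp,
      Category.assoc, hl', hsq]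

end Groth.Agent.H53.ValSep
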