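import Groth.Agent.H53.ValSep.GeomC
import Groth.Agent.H53.ValImage.Sch
import Groth.Agent.H52.QS

set_option autoImplicit false
set_option backward.isDefEq.respectTransparency false
universe u
open CategoryTheory CategoryTheory.Limits AlgebraicGeometry TensorProduct Opposite IsLocalRing
open AlgSp

namespace Groth.Agent.H53.ValSep

open Groth.Agent.H52.UC Groth.Agent.H52

variable {S : Scheme.{u}}

/-- The scheme theoretic image of `t` is its own scheme theoretic image space. -/
theorem isSchImage_id_of_isSchImage {F G Z : Sp S} (t : F ⟶ G) (i : Z ⟶ G) (hZ : IsSchImage t i)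
    (t₀ : F ⟶ Z) (ht₀ : t₀ ≫ i = t) : IsSchImage t₀ (𝟙 Z) := by
  obtain ⟨hci, -, hmin⟩ := hZ
  have hCI : (RepWith (S := S) @IsClosedImmersion).IsMultiplicative := repWith_isMultiplicative _
  have : Mono i := Groth.Agent.H53.SchImageRed.mono_of_repWith_isClosedImmersion i hci
  refine ⟨H52.repWith_of_isIso _ _, ⟨t₀, Category.comp_id _⟩, ?_⟩
  rintro Z' i' hZ'alg hci' ⟨k, hk⟩
  obtain ⟨h, hh⟩ := hmin (i' ≫ i) hZ'alg (hCI.comp_mem _ _ hci' hci)
    ⟨k, by rw [← Category.assoc, hk, ht₀]⟩
  refine ⟨h, ?_⟩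
  rw [← cancel_mono i, Category.assoc, hh, Category.id_comp]

/-- S10284: for a separated morphism, a lift after a dominating extension descends. -/
theorem hasLift_of_domExt_hasLift {X Y : Sp S} (hX : IsAlgSpace X) (hY : IsAlgSpace Y)
    (f : X ⟶ Y) (hf : IsSeparatedMor f) (sq : ValSq f) (e : sq.DomExt) (he : e.HasLift) :
    sq.HasLift := by
  obtain ⟨l', hl1, hl2⟩ := he
  have hB : IsAlgSpace ((yon S).obj sq.ptA) := IsAlgSpace.yon_obj _
  have pb : IsPullback (pullback.fst f sq.bot) (pullback.snd f sq.bot) f sq.bot :=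
    IsPullback.of_hasPullback _ _
  have hP : IsAlgSpace (pullback f sq.bot) := H52.isAlgSpace_of_isPullback pb hX hY hB
  have hsnd : IsSeparatedMor (pullback.snd f sq.bot) :=
    H52.repWith_diagonal_of_isPullback @IsClosedImmersion pb hf
  let t : (yon S).obj sq.ptK ⟶ pullback f sq.bot := pullback.lift sq.top ((yon S).map sq.j) sq.comm
  have ht1 : t ≫ pullback.fst f sq.bot = sq.top := pullback.lift_fst _ _ _
  have ht2 : t ≫ pullback.snd f sq.bot = (yon S).map sq.j := pullback.lift_snd _ _ _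
  -- `t` is quasi-compact
  have hqs : IsQuasiSeparatedMor (pullback.snd f sq.bot) :=
    Groth.Agent.H53.repWith_of_le (P := @IsClosedImmersion) (Q := @QuasiCompact)
      (fun _ _ φ hφ => by have := hφ; infer_instance) hsnd
  have hqc : IsQuasiCompactMor t := by
    refine H52.isQuasiCompactMor_of_comp (IsAlgSpace.yon_obj _) hP hB t _ ?_ hqs
    rw [ht2]
    exact H52.isQuasiCompactMor_of_repWith_quasiCompact _
      ((repWith_yon_map_iff _ _).2 (inferInstanceAs (QuasiCompact (Spec.map _))))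
  -- the scheme theoretic image
  obtain ⟨Z, i, hZalg, hici, ⟨t₀, ht₀⟩, huniv, -⟩ :=
    QcImage.exists_qcImage (IsAlgSpace.yon_obj _) hP t hqc
  have hZimg : IsSchImage t i := by
    refine ⟨hici, ⟨t₀, ht₀⟩, fun Z' i' _ hi' hf'' => ?_⟩
    exact huniv hP (𝟙 _) (QcImage.locP_flat_id _) (𝟙 _) t (IsPullback.of_horiz_isIso ⟨by simp⟩)
      (𝟙 _) i (IsPullback.of_horiz_isIso ⟨by simp⟩) i' hi' hf''
  have hdense : IsSchImage t₀ (𝟙 Z) := isSchImage_id_of_isSchImage t i hZimg t₀ ht₀
  have hmono : Mono i := Groth.Agent.H53.SchImageRed.mono_of_repWith_isClosedImmersion i hici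
  have hπ : IsSeparatedMor (i ≫ pullback.snd f sq.bot) :=
    H52.repWith_diagonal_comp @IsClosedImmersion _ _ (H52.isSeparatedMor_of_repWith_mono i) hsnd
  have ht₀π : t₀ ≫ i ≫ pullback.snd f sq.bot = (yon S).map (gA sq.str sq.K) := by
    rw [← Category.assoc, ht₀, ht2]
  -- the extended lift and its point over the closed point
  let φO : e.ptA' ⟶ sq.ptA := Over.homMk (Spec.map (CommRingCat.ofHom e.φ)) rfl
  let a' : (yon S).obj e.ptA' ⟶ pullback f sq.bot := pullback.lift l' ((yon S).map φO) hl2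
  have ha'1 : a' ≫ pullback.fst f sq.bot = l' := pullback.lift_fst _ _ _
  have ha'2 : a' ≫ pullback.snd f sq.bot = (yon S).map φO := pullback.lift_snd _ _ _
  let jO' : e.ptK' ⟶ e.ptA' :=
    Over.homMk (Spec.map (CommRingCat.ofHom (algebraMap e.A' e.K'))) rfl
  let ψO' : e.ptK' ⟶ sq.ptK := Over.homMk (Spec.map (CommRingCat.ofHom e.ψ)) (by
          change Spec.map _ ≫ Spec.map _ ≫ _ = Spec.map _ ≫ Spec.map _ ≫ _
          rw [← Spec.map_comp_assoc, ← Spec.map_comp_assoc, ← CommRingCat.ofHom_comp,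
            ← CommRingCat.ofHom_comp, e.comm])
  have hl1' : (yon S).map jO' ≫ l' = (yon S).map ψO' ≫ sq.top := hl1
  have hjφ : jO' ≫ φO = ψO' ≫ sq.j := by
    apply Over.OverMorphism.ext
    change Spec.map _ ≫ Spec.map _ = Spec.map _ ≫ Spec.map _
    rw [← Spec.map_comp, ← Spec.map_comp, ← CommRingCat.ofHom_comp, ← CommRingCat.ofHom_comp,
      e.comm]
  have htt' : (yon S).map jO' ≫ a' = (yon S).map ψO' ≫ t := by
    apply pb.hom_ext
    · rw [Category.assoc, Category.assoc, ha'1, ht1, hl1']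
    · rw [Category.assoc, Category.assoc, ha'2, ht2, ← Functor.map_comp, ← Functor.map_comp, hjφ]
  -- `a'` factors through the image
  have sqA' := hici.rep.isPullback a'
  have hjA' : IsClosedImmersion (hici.rep.snd a').left := hici.property_snd a'
  obtain ⟨β', hβ'⟩ := (yon S).map_surjective
    (sqA'.lift ((yon S).map ψO' ≫ t₀) ((yon S).map jO') (by rw [Category.assoc, ht₀, htt']))
  have hβ'j : β' ≫ hici.rep.snd a' = jO' := by
    apply (yon S).map_injective
    rw [Functor.map_comp, hβ', sqA'.lift_snd]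
  have hdom := Groth.Agent.H53.ValImage.isSchemeTheoreticallyDominant_specMap_of_injective
    (algebraMap e.A' e.K') (IsFractionRing.injective e.A' e.K')
  obtain ⟨α', hα'⟩ := Groth.Agent.H53.ValImage.exists_lift_closedImmersion
    (hici.rep.snd a').left (𝟙 (Spec (CommRingCat.of e.A')))
    (Spec.map (CommRingCat.ofHom (algebraMap e.A' e.K'))) β'.left (by
      rw [Category.comp_id]
      exact (congrArg (fun k => k.left) hβ'j).symm)
  have hz : Points.map (i ≫ pullback.snd f sq.bot)
      (Points.ofPt (hici.rep.fst a') (α' (closedPoint e.A'))) =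
      Points.ofScheme (Over.mk sq.str) (closedPoint sq.A) := by
    rw [Points.map_ofPt, ← Category.assoc, sqA'.w, Category.assoc, ha'2, ← Functor.map_comp,
      Groth.Agent.H53.FibrePts.ofPt_yon_map]
    congr 1
    change (Spec.map (CommRingCat.ofHom e.φ)) ((α' ≫ (hici.rep.snd a').left) (closedPoint e.A')) = _
    rw [hα']
    have := e.isLocalHom
    exact IsLocalRing.comap_closedPoint e.φ
  obtain ⟨l, hlπ, hlK⟩ := exists_section sq.str hZalg (i ≫ pullback.snd f sq.bot) hπ t₀ ht₀π
    hdense _ hz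
  refine ⟨l ≫ i ≫ pullback.fst f sq.bot, ?_, ?_⟩
  · change (yon S).map (gA sq.str sq.K) ≫ l ≫ i ≫ pullback.fst f sq.bot = sq.top
    rw [← Category.assoc, hlK, ← Category.assoc, ht₀, ht1]
  · rw [Category.assoc, Category.assoc, pb.w, ← Category.assoc i, ← Category.assoc l, hlπ,
      Category.id_comp]

end Groth.Agent.H53.ValSep
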